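import Mathlib
import Cfsg.Agent.Lib.Helper50.CAI.Defs
import Cfsg.Agent.Lib.Helper35.SL2Mult

/-!
# Project CAI (S2202), package [SPLIT]

An extension of `PSL₂(F)` (`F` finite of characteristic 2, `|F| ≥ 4`) by an abelian normal
subgroup `B` of odd order that is centralized by all involutions is the direct product
`SL₂(F) × B`.
-/

set_option autoImplicit false

namespace Cfsg.Agent.Lib.Helper47.CAI

open Cfsg.Agent.Lib.Helper50.CAI Cfsg.Agent.Lib.Helper35 Cfsg.Agent.Lib.Helper41

open scoped commutatorElement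

universe u

/-- A central subgroup `B = ker τ` which meets the commutator subgroup trivially, where the
commutator subgroup maps onto the image: then `G ≃ im × B`. -/
theorem split_of_central_aux {G : Type*} [Group G] {S : Type*} [Group S] (B : Subgroup G)
    (τ : G →* S) (hker : ∀ g : G, τ g = 1 ↔ g ∈ B)
    (hcent : ∀ b ∈ B, ∀ g : G, g * b = b * g)
    (hinf : ∀ z ∈ B, z ∈ commutator G → z = 1)
    (hmap : ∀ s : S, ∃ k ∈ commutator G, τ k = s) :
    Nonempty (G ≃* S × ↥B) := by
  classical
  have hbij : Function.Bijective (τ.comp (commutator G).subtype) := by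
    constructor
    · rw [injective_iff_map_eq_one]
      intro k hk
      have h1 : τ (k : G) = 1 := hk
      exact Subtype.ext (hinf _ ((hker _).mp h1) k.2)
    · intro s
      obtain ⟨k, hk, hks⟩ := hmap s
      exact ⟨⟨k, hk⟩, hks⟩
  let eK : ↥(commutator G) ≃* S := MulEquiv.ofBijective _ hbij
  have heK : ∀ s : S, τ ((eK.symm s : ↥(commutator G)) : G) = s := by
    intro s
    have h := eK.apply_symm_apply s
    exact h
  let f₁ : S →* G := (commutator G).subtype.comp eK.symm.toMonoidHom
  have hcomm : ∀ (s : S) (b : ↥B), Commute (f₁ s) (B.subtype b) := by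
    intro s b
    exact hcent b.1 b.2 _
  let f : S × ↥B →* G := MonoidHom.noncommCoprod f₁ B.subtype hcomm
  have hf : ∀ (s : S) (b : ↥B), f (s, b) = ((eK.symm s : ↥(commutator G)) : G) * (b : G) := by
    intro s b
    rfl
  have hfbij : Function.Bijective f := by
    constructor
    · rw [injective_iff_map_eq_one]
      rintro ⟨s, b⟩ h
      rw [hf] at h
      have h2 := congrArg τ h
      rw [map_mul, heK, (hker _).mpr b.2, mul_one, map_one] at h2
      subst h2
      rw [map_one, Subgroup.coe_one, one_mul] at h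
      have hb : b = 1 := Subtype.ext h
      rw [hb]
      rfl
    · intro g
      have hmem : ((eK.symm (τ g) : ↥(commutator G)) : G)⁻¹ * g ∈ B := by
        rw [← hker, map_mul, map_inv, heK, inv_mul_cancel]
      refine ⟨(τ g, ⟨_, hmem⟩), ?_⟩
      rw [hf]
      show ((eK.symm (τ g) : ↥(commutator G)) : G) *
        (((eK.symm (τ g) : ↥(commutator G)) : G)⁻¹ * g) = g
      rw [mul_inv_cancel_left]
  exact ⟨(MulEquiv.ofBijective f hfbij).symm⟩

/-- [SPLIT] -/
theorem pkgSplit : PkgSplit.{u} := by
  intro G _ _ B _ F _ _ hchar h4 hodd hBab hinv he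
  obtain ⟨e⟩ := he
  classical
  have : CharP F 2 := hchar
  have h2 : (2 : F) = 0 := by
    have h := CharP.cast_eq_zero F 2
    exact_mod_cast h
  -- `SL₂(F) ≃ PSL₂(F)`
  have hcen := Cfsg.Agent.Lib.Helper5.center_SL2_eq_bot_of_two_eq_zero h2
  let π : Matrix.SpecialLinearGroup (Fin 2) F →* Matrix.ProjectiveSpecialLinearGroup (Fin 2) F :=
    QuotientGroup.mk' (Subgroup.center (Matrix.SpecialLinearGroup (Fin 2) F))
  have hπbij : Function.Bijective π := by
    constructor
    · rw [← MonoidHom.ker_eq_bot_iff, QuotientGroup.ker_mk', hcen]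
    · exact QuotientGroup.mk'_surjective _
  let ι : Matrix.SpecialLinearGroup (Fin 2) F ≃* Matrix.ProjectiveSpecialLinearGroup (Fin 2) F :=
    MulEquiv.ofBijective π hπbij
  let τ : G →* Matrix.SpecialLinearGroup (Fin 2) F :=
    ι.symm.toMonoidHom.comp (e.toMonoidHom.comp (QuotientGroup.mk' B))
  have hτdef : ∀ g : G, τ g = ι.symm (e (QuotientGroup.mk' B g)) := fun _ => rfl
  have hτsurj : Function.Surjective τ := by
    intro s
    obtain ⟨g, hg⟩ := QuotientGroup.mk'_surjective B (e.symm (ι s))
    refine ⟨g, ?_⟩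
    rw [hτdef, hg, e.apply_symm_apply, ι.symm_apply_apply]
  have hker : ∀ g : G, τ g = 1 ↔ g ∈ B := by
    intro g
    rw [hτdef, MulEquiv.map_eq_one_iff, MulEquiv.map_eq_one_iff, QuotientGroup.mk'_apply,
      QuotientGroup.eq_one_iff]
  -- cardinalities
  obtain ⟨q, hq⟩ : ∃ q, q = Fintype.card F := ⟨_, rfl⟩
  have hq4 : 4 ≤ q := by rw [hq]; exact h4
  have hG : Nat.card (Matrix.SpecialLinearGroup (Fin 2) F) = q * (q ^ 2 - 1) := by
    rw [hq]; exact Cfsg.Agent.Lib.Helper5.card_SL2
  have hqq : q ^ 2 - 1 = (q - 1) * (q + 1) := by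
    obtain ⟨k, rfl⟩ : ∃ k, q = k + 1 := ⟨q - 1, by omega⟩
    have : (k + 1) ^ 2 = k * (k + 2) + 1 := by ring
    rw [this]; simp
  -- the involution `upperU 1`
  have hu0 : upperU (0 : F) = 1 := by
    apply Subtype.ext
    rw [upperU_coe]
    ext i j
    fin_cases i <;> fin_cases j <;> simp
  have hu2 : upperU (1 : F) * upperU (1 : F) = 1 := by
    rw [← upperU_add', one_add_one_eq_two, h2, hu0]
  have hu1 : upperU (1 : F) ≠ 1 := by
    intro h
    have h1 : (upperU (1 : F)).1 0 1 = (1 : Matrix.SpecialLinearGroup (Fin 2) F).1 0 1 := by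
      rw [h]
    rw [upperU_coe] at h1
    simp at h1
  have : Nontrivial (Matrix.SpecialLinearGroup (Fin 2) F) := ⟨⟨_, _, hu1⟩⟩
  have hPsimple : IsSimpleGroup (Matrix.ProjectiveSpecialLinearGroup (Fin 2) F) :=
    Matrix.ProjectiveSpecialLinearGroup.rank_two_simple
      (by rw [Nat.card_eq_fintype_card]; exact h4)
  have hsimple : IsSimpleGroup (Matrix.SpecialLinearGroup (Fin 2) F) :=
    IsSimpleGroup.isSimpleGroup_of_surjective ι.symm.toMonoidHom ι.symm.surjective
  -- an involution of `G`
  obtain ⟨g₀, hg₀⟩ := hτsurj (upperU (1 : F))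
  obtain ⟨m, hm⟩ := hodd
  have hg2 : g₀ ^ 2 ∈ B := by
    rw [← hker, map_pow, hg₀, pow_two, hu2]
  have hBpow : ∀ b ∈ B, b ^ Nat.card B = 1 := by
    intro b hb
    have h := pow_card_eq_one' (G := ↥B) (x := ⟨b, hb⟩)
    have h' : ((⟨b, hb⟩ : ↥B) ^ Nat.card B : ↥B).1 = (1 : ↥B).1 := congrArg Subtype.val h
    rw [Subgroup.coe_pow, Subgroup.coe_one] at h'
    exact h'
  obtain ⟨t, ht⟩ : ∃ t : G, t = g₀ ^ Nat.card B := ⟨_, rfl⟩
  have ht2 : t ^ 2 = 1 := by
    rw [ht, ← pow_mul, mul_comm, pow_mul]
    exact hBpow _ hg2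
  have hτt : τ t = upperU 1 := by
    rw [ht, map_pow, hg₀, hm, pow_succ, pow_mul, pow_two, hu2, one_pow, one_mul]
  have ht1 : t ≠ 1 := by
    intro h
    rw [h, map_one] at hτt
    exact hu1 hτt.symm
  have hto : orderOf t = 2 := orderOf_eq_prime ht2 ht1
  -- `B` is central
  have hcent : ∀ b ∈ B, ∀ g : G, g * b = b * g := by
    have hCn : (Subgroup.centralizer (B : Set G)).Normal := inferInstance
    have hmapn : ((Subgroup.centralizer (B : Set G)).map τ).Normal := hCn.map τ hτsurj
    have htop : (Subgroup.centralizer (B : Set G)).map τ = ⊤ := by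
      rcases hmapn.eq_bot_or_eq_top with h | h
      · exfalso
        have hmem : τ t ∈ (Subgroup.centralizer (B : Set G)).map τ :=
          Subgroup.mem_map_of_mem τ (by
            rw [Subgroup.mem_centralizer_iff]
            intro b hb
            exact (hinv t hto b hb).symm)
        rw [h, Subgroup.mem_bot, hτt] at hmem
        exact hu1 hmem
      · exact h
    intro b hb g
    have hg : τ g ∈ (Subgroup.centralizer (B : Set G)).map τ := by rw [htop]; trivial
    obtain ⟨c, hc, hcg⟩ := hg
    have hcb : c⁻¹ * g ∈ B := by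
      rw [← hker, map_mul, map_inv, hcg, inv_mul_cancel]
    have h1 : c * b = b * c := ((Subgroup.mem_centralizer_iff.mp hc) b hb).symm
    have h3 : (c⁻¹ * g) * b = b * (c⁻¹ * g) := hBab _ hcb _ hb
    calc g * b = c * ((c⁻¹ * g) * b) := by group
      _ = c * (b * (c⁻¹ * g)) := by rw [h3]
      _ = (c * b) * (c⁻¹ * g) := by group
      _ = (b * c) * (c⁻¹ * g) := by rw [h1]
      _ = b * g := by group
  have hcenter : ∀ b ∈ B, b ∈ Subgroup.center G := by
    intro b hb
    rw [Subgroup.mem_center_iff]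
    intro g
    exact hcent b hb g
  have hkerle : τ.ker ≤ Subgroup.center G := by
    intro z hz
    exact hcenter z ((hker z).mp hz)
  -- tori
  obtain ⟨a₀, ha₀⟩ := IsCyclic.exists_generator (α := Fˣ)
  have hoa : orderOf a₀ = q - 1 := by
    rw [orderOf_eq_card_of_forall_mem_zpowers ha₀, Nat.card_eq_fintype_card, Fintype.card_units,
      hq]
  have hod : orderOf (diagD a₀) = q - 1 := by
    rw [← hoa]
    exact orderOf_injective diagHom diagHom_injective a₀
  obtain ⟨W, hW⟩ := exists_sl2_orderOf_card_add_one (F := F) 2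
  obtain ⟨n, hn⟩ := FiniteField.card F 2
  -- `B ∩ [G,G] = 1`
  have hinf : ∀ z ∈ B, z ∈ commutator G → z = 1 := by
    intro z hzB hzK
    have hzk : τ z = 1 := (hker z).mpr hzB
    have hz : z ∈ Subgroup.center G := hcenter z hzB
    have hzodd : Odd (orderOf z) :=
      Odd.of_dvd_nat ⟨m, hm⟩ (Subgroup.orderOf_dvd_natCard B hzB)
    have hcop2 : Nat.Coprime (orderOf z) 2 := by
      rw [Nat.coprime_comm, Nat.Prime.coprime_iff_not_dvd Nat.prime_two]
      intro h
      obtain ⟨k, hk⟩ := hzodd
      omega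
    have hcop : Nat.Coprime (orderOf z) q := by
      rw [hq, hn.2]
      exact Nat.Coprime.pow_right _ hcop2
    have hT : z ^ (q * (q + 1)) = 1 := by
      have hcard : Nat.card (Subgroup.zpowers (diagD a₀)) = q - 1 := by
        rw [Nat.card_zpowers, hod]
      rw [← index_of_card (Subgroup.zpowers (diagD a₀)) (q - 1) (q * (q + 1)) (by omega) hcard
        (by rw [hG, hqq]; ring)]
      apply pow_index_eq_one_of_comm τ hτsurj hz hzK hzk
      intro y₁ y₂ h₁ h₂
      exact comm_of_map_mem_zpowers τ hτsurj hkerle _ y₁ y₂ h₁ h₂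
    have hW' : z ^ (q * (q - 1)) = 1 := by
      have hcard : Nat.card (Subgroup.zpowers W) = q + 1 := by
        rw [Nat.card_zpowers, hW, hq]
      rw [← index_of_card (Subgroup.zpowers W) (q + 1) (q * (q - 1)) (by omega) hcard
        (by rw [hG, hqq]; ring)]
      apply pow_index_eq_one_of_comm τ hτsurj hz hzK hzk
      intro y₁ y₂ h₁ h₂
      exact comm_of_map_mem_zpowers τ hτsurj hkerle _ y₁ y₂ h₁ h₂
    have hn2 : orderOf z ∣ q + 1 :=
      hcop.dvd_of_dvd_mul_left (orderOf_dvd_of_pow_eq_one hT)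
    have hn3 : orderOf z ∣ q - 1 :=
      hcop.dvd_of_dvd_mul_left (orderOf_dvd_of_pow_eq_one hW')
    have hn4 : orderOf z ∣ 2 := by
      have := Nat.dvd_sub hn2 hn3
      have e : q + 1 - (q - 1) = 2 := by omega
      rwa [e] at this
    have hn5 : orderOf z = 1 := by
      have := Nat.Coprime.eq_one_of_dvd hcop2 hn4
      exact this
    exact orderOf_eq_one_iff.mp hn5
  -- `SL₂(F)` is perfect
  have hcomm_top : commutator (Matrix.SpecialLinearGroup (Fin 2) F) = ⊤ := by
    have hnc : (commutator (Matrix.SpecialLinearGroup (Fin 2) F)).Normal := inferInstance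
    rcases hnc.eq_bot_or_eq_top with h | h
    · exfalso
      have hab : ∀ a b : Matrix.SpecialLinearGroup (Fin 2) F, a * b = b * a := by
        intro a b
        have hmem : ⁅a, b⁆ ∈ commutator (Matrix.SpecialLinearGroup (Fin 2) F) :=
          Subgroup.commutator_mem_commutator (Subgroup.mem_top a) (Subgroup.mem_top b)
        rw [h, Subgroup.mem_bot, commutatorElement_eq_one_iff_mul_comm] at hmem
        exact hmem
      have hzn : (Subgroup.zpowers (upperU (1 : F))).Normal := by
        constructor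
        intro x hx y
        rw [hab y x, mul_inv_cancel_right]
        exact hx
      rcases hzn.eq_bot_or_eq_top with h' | h'
      · have hmem : upperU (1 : F) ∈ Subgroup.zpowers (upperU (1 : F)) :=
          Subgroup.mem_zpowers _
        rw [h', Subgroup.mem_bot] at hmem
        exact hu1 hmem
      · have hc : Nat.card (Subgroup.zpowers (upperU (1 : F))) = 2 := by
          rw [Nat.card_zpowers]
          exact orderOf_eq_prime (by rw [pow_two]; exact hu2) hu1
        rw [h', Subgroup.card_top, hG] at hc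
        have h16 : 4 ^ 2 ≤ q ^ 2 := Nat.pow_le_pow_left hq4 2
        have h60 : 4 * 15 ≤ q * (q ^ 2 - 1) := Nat.mul_le_mul hq4 (by omega)
        rw [hc] at h60
        omega
    · exact h
  have hmap : ∀ s : Matrix.SpecialLinearGroup (Fin 2) F, ∃ k ∈ commutator G, τ k = s := by
    intro s
    have h1 : s ∈ (commutator G).map τ := by
      rw [map_commutator_of_surjective τ hτsurj, hcomm_top]
      trivial
    obtain ⟨k, hk, hks⟩ := h1
    exact ⟨k, hk, hks⟩
  exact split_of_central_aux B τ hker hcent hinf hmap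

end Cfsg.Agent.Lib.Helper47.CAI
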